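import Groth.Agent.Lib.Mero.ZeroScheme
import Groth.Agent.Lib.QCoh.SchSupport

/-! # Ideals of zero schemes of arbitrary sections of invertible modules -/

set_option backward.isDefEq.respectTransparency false

universe u

open CategoryTheory CategoryTheory.Limits AlgebraicGeometry TopologicalSpace Opposite
open GrothLib.InvExt (mres IsGen)

namespace GrothLib.Jets

variable {X : Scheme.{u}} {L : X.Modules}

/-- The zero scheme of any section of an invertible module has the expected ideals. -/
theorem zeroScheme_ideal (hL : PicF.IsInvertible L) (s : Coh.structureModule X ⟶ L) (U : X.affineOpens) :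
    (PicF2.zeroScheme L s).ideal U = (show Ideal Γ(X, U) from PicF2.zeroIdealOn L s U.1) := by
  have hO : Coh.IsCoh (Coh.structureModule X) := Euler.isCoh_of_isInvertible Euler.isInvertible_structure
  have hLc : Coh.IsCoh L := Euler.isCoh_of_isInvertible hL
  have hQ : Coh.IsCoh (cokernel s) := QCoh.isCoh_cokernel s hO hLc
  haveI := hQ.1
  haveI := hO.1
  haveI := hLc.1
  let K := kernel (cokernel.π s)
  haveI : K.IsQuasicoherent := QCoh.isQuasicoherent_kernel _
  let t : Coh.structureModule X ⟶ K := Abelian.factorThruImage s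
  haveI : (kernel t).IsQuasicoherent := QCoh.isQuasicoherent_kernel _
  let S₁ : ShortComplex X.Modules := ShortComplex.mk (kernel.ι (cokernel.π s)) (cokernel.π s) (kernel.condition _)
  have hS₁ : S₁.ShortExact :=
    { exact := ShortComplex.exact_of_f_is_kernel _ (kernelIsKernel _) }
  let S₂ : ShortComplex X.Modules := ShortComplex.mk (kernel.ι t) t (kernel.condition _)
  have hS₂ : S₂.ShortExact :=
    { exact := ShortComplex.exact_of_f_is_kernel _ (kernelIsKernel _) }
  haveI : S₁.X₁.IsQuasicoherent := inferInstanceAs K.IsQuasicoherent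
  haveI : S₂.X₁.IsQuasicoherent := inferInstanceAs (kernel t).IsQuasicoherent
  have hideal : (fun U : X.affineOpens => show Ideal Γ(X, U) from PicF2.zeroIdealOn L s U.1) =
      (QCoh.annIdeal (cokernel s) hQ.2).ideal := by
    funext U
    ext a
    rw [QCoh.annIdeal_ideal, Module.mem_annihilator]
    constructor
    · intro h q
      obtain ⟨m, rfl⟩ := QCoh.app_surjective_of_isAffineOpen hS₁ U.2 q
      obtain ⟨b, hb⟩ := h m
      refine (Ample.app_smul (cokernel.π s) a m).symm.trans ?_
      refine (congrArg ((cokernel.π s).app U.1) (hb.trans (Mero.Zero.app_eq_smul_secVal L s U.1 b).symm)).trans ?_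
      rw [← ConcreteCategory.comp_apply, ← Scheme.Modules.Hom.comp_app, cokernel.condition]
      rfl
    · intro h m
      obtain ⟨z, hz⟩ := Cohom.sections_exact (QCoh.toAbFun_map_shortExact S₁ hS₁) U.1
        ((show Γ(X, U.1) from a) • (show Γ(L, U.1) from m))
        ((Ample.app_smul (cokernel.π s) a m).trans (h _))
      obtain ⟨b, hb⟩ := QCoh.app_surjective_of_isAffineOpen hS₂ U.2 z
      refine ⟨b, (hz.symm.trans ?_).trans (Mero.Zero.app_eq_smul_secVal L s U.1 b)⟩
      rw [← hb]
      show (kernel.ι (cokernel.π s)).app U.1 (t.app U.1 b) = s.app U.1 b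
      rw [← ConcreteCategory.comp_apply, ← Scheme.Modules.Hom.comp_app]
      exact congrArg (fun f : Coh.structureModule X ⟶ L => f.app U.1 b) (Abelian.image.fac s)
  rw [PicF2.zeroScheme, hideal, Scheme.IdealSheafData.ofIdeals_ideal]
  exact (congrFun hideal U).symm

/-- With respect to a generator `e`, the ideal of the zero scheme of `c • e` is `(c)`. -/
theorem zeroScheme_ideal_gen (hL : PicF.IsInvertible L) (s : Coh.structureModule X ⟶ L)
    (U : X.affineOpens) {e : Γ(L, U.1)} (he : IsGen L U.1 e) {c : Γ(X, U.1)}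
    (hc : (show Γ(L, U.1) from PicF2.secVal L s U.1) = c • e) :
    (PicF2.zeroScheme L s).ideal U = Ideal.span {c} := by
  rw [zeroScheme_ideal hL s U]
  ext a
  rw [Ideal.mem_span_singleton]
  have hself : mres L (le_refl U.1) e = e := GrothLib.InvExt.mres_self L e
  constructor
  · intro ha
    obtain ⟨b, hb⟩ := ha e
    refine ⟨b, he.smul_left_injective le_rfl ?_⟩
    rw [hself]
    change (show Γ(X, U.1) from a) • e = (show Γ(X, U.1) from b) • (show Γ(L, U.1) from PicF2.secVal L s U.1) at hb
    rw [hb, hc, smul_smul, mul_comm]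
  · rintro ⟨b, hb⟩ m
    obtain ⟨d, hd⟩ := he.exists_smul_eq le_rfl m
    rw [hself] at hd
    refine ⟨(b * d : Γ(X, U.1)), ?_⟩
    change (show Γ(X, U.1) from a) • (show Γ(L, U.1) from m) =
      (b * d : Γ(X, U.1)) • (show Γ(L, U.1) from PicF2.secVal L s U.1)
    rw [hd, hc, hb, smul_smul, smul_smul]
    congr 1
    ring

end GrothLib.Jets
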