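import Groth.Agent.Lib.Jets.Engine
import Groth.Agent.Lib.GenericSmooth.Basic
import Mathlib.Algebra.MvPolynomial.PDeriv

/-! # Bertini for generating systems in characteristic zero -/

set_option backward.isDefEq.respectTransparency false

universe u

open TensorProduct MvPolynomial

namespace GrothLib.Jets

attribute [local instance] MvPolynomial.algebraMvPolynomial

variable {k : Type u} [Field k] [IsAlgClosed k] {B : Type u} [CommRing B] [Algebra k B] {m : ℕ}

/-- The total space of a generating linear system is smooth. -/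
theorem smooth_totalSpace [Algebra.Smooth k B] (g : Fin m → B) (hg : Ideal.span (Set.range g) = ⊤) :
    Algebra.Smooth k (MvPolynomial (Fin m) B ⧸
      Ideal.span {∑ i, MvPolynomial.C (g i) * MvPolynomial.X i}) := by
  haveI : Algebra.Smooth B (MvPolynomial (Fin m) B) := ⟨inferInstance, inferInstance⟩
  haveI : Algebra.Smooth k (MvPolynomial (Fin m) B) := Algebra.Smooth.comp k B _
  refine smooth_quotient_of_not_mem_sq _ fun P hP hmem => ?_
  have hall : ∀ i, MvPolynomial.C (g i) ∈ P := fun i => by
    have hd : pderiv i (∑ l, MvPolynomial.C (g l) * MvPolynomial.X l) = MvPolynomial.C (g i) := by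
      rw [map_sum, Finset.sum_eq_single i (fun l _ hl => by simp [pderiv_X_of_ne hl])
        (fun hh => (hh (Finset.mem_univ i)).elim)]
      simp
    rw [← hd]
    rw [pow_two] at hmem
    refine Submodule.mul_induction_on hmem (fun x hx y hy => ?_) fun x y hx hy => ?_
    · rw [Derivation.leibniz]
      exact P.add_mem (P.mul_mem_right _ hx) (P.mul_mem_right _ hy)
    · rw [map_add]; exact P.add_mem hx hy
  refine hP.ne_top (top_le_iff.mp ?_)
  rw [← Ideal.map_top (MvPolynomial.C : B →+* MvPolynomial (Fin m) B), ← hg, Ideal.map_span, Ideal.span_le]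
  rintro _ ⟨_, ⟨i, rfl⟩, rfl⟩
  exact hall i

/-- Points over the generic point of a smooth total space are smooth in characteristic zero. -/
theorem isSmoothAt_of_generic {k R T : Type u} [Field k] [CommRing R] [IsDomain R] [CharZero R] [CommRing T]
    [Algebra k T] [Algebra.FiniteType k T] [Algebra R T] [Algebra.FiniteType R T] (Q : Ideal T) [Q.IsPrime]
    [Algebra.IsSmoothAt k Q] (h : ∀ P : R, P ≠ 0 → algebraMap R T P ∉ Q) : Algebra.IsSmoothAt R Q := by
  haveI := GrothLib.Serre.isRegularLocalRing_of_isSmoothAt (k := k) Q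
  have hu : ∀ P : nonZeroDivisors R, IsUnit (algebraMap R (Localization.AtPrime Q) P) := fun P => by
    rw [IsScalarTower.algebraMap_apply R T (Localization.AtPrime Q)]
    exact IsLocalization.map_units (Localization.AtPrime Q)
      (⟨algebraMap R T P, h P (nonZeroDivisors.ne_zero P.2)⟩ : Q.primeCompl)
  letI : Algebra (FractionRing R) (Localization.AtPrime Q) :=
    (IsLocalization.lift (M := nonZeroDivisors R) hu).toAlgebra
  haveI : IsScalarTower R (FractionRing R) (Localization.AtPrime Q) :=
    IsScalarTower.of_algebraMap_eq fun P => (IsLocalization.lift_eq hu P).symm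
  haveI : CharZero (FractionRing R) := charZero_of_injective_algebraMap (IsFractionRing.injective R _)
  haveI : Algebra.EssFiniteType T (Localization.AtPrime Q) := .of_isLocalization _ Q.primeCompl
  haveI : Algebra.EssFiniteType R (Localization.AtPrime Q) := .comp _ T _
  haveI : Algebra.EssFiniteType (FractionRing R) (Localization.AtPrime Q) :=
    Algebra.EssFiniteType.of_comp R _ _
  haveI : Algebra.FormallySmooth (FractionRing R) (Localization.AtPrime Q) :=
    GrothLib.GenericSmooth.formallySmooth_of_regular_essFiniteType _ _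
  haveI : Algebra.FormallyEtale R (FractionRing R) :=
    Algebra.FormallyEtale.of_isLocalization (nonZeroDivisors R)
  exact Algebra.FormallySmooth.comp R (FractionRing R) (Localization.AtPrime Q)

/-- Specialising at a rational point of the base a smooth localisation of the total space. -/
theorem smooth_of_specialise {k R T C0 : Type u} [Field k] [CommRing R] [CommRing T] [CommRing C0]
    [Algebra R T] [Algebra R k] [Algebra k C0] [Algebra R C0] [IsScalarTower R k C0]
    (hRk : Function.Surjective (algebraMap R k)) (P : R) (hP : algebraMap R k P ≠ 0)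
    [Algebra.Smooth R (Localization.Away (algebraMap R T P))] (evT : T →ₐ[R] C0)
    (hsurj : Function.Surjective evT)
    (hker : RingHom.ker evT.toRingHom ≤ (RingHom.ker (algebraMap R k)).map (algebraMap R T)) :
    Algebra.Smooth k C0 := by
  have huP : ∀ y : Submonoid.powers (algebraMap R T P), IsUnit (evT y) := by
    rintro ⟨_, n, rfl⟩
    rw [map_pow, evT.commutes, IsScalarTower.algebraMap_apply R k C0]
    exact ((isUnit_iff_ne_zero.mpr hP).map _).pow n
  let evP : Localization.Away (algebraMap R T P) →ₐ[R] C0 := IsLocalization.liftAlgHom (f := evT) huP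
  let fwd : k ⊗[R] Localization.Away (algebraMap R T P) →ₐ[k] C0 :=
    Algebra.TensorProduct.lift (Algebra.ofId k C0) evP fun _ _ => Commute.all _ _
  let z : T →ₐ[R] k ⊗[R] Localization.Away (algebraMap R T P) :=
    Algebra.TensorProduct.includeRight.comp (IsScalarTower.toAlgHom R T _)
  have hz : RingHom.ker evT.toRingHom ≤ RingHom.ker z.toRingHom := by
    refine hker.trans (Ideal.map_le_iff_le_comap.mpr fun r hr => ?_)
    show z (algebraMap R T r) = 0
    rw [z.commutes, IsScalarTower.algebraMap_apply R k (k ⊗[R] _), RingHom.mem_ker.mp hr, map_zero]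
  have hfz : ∀ t, fwd (z t) = evT t := fun t => by
    show fwd ((1 : k) ⊗ₜ[R] algebraMap T _ t) = _
    rw [Algebra.TensorProduct.lift_tmul, map_one, one_mul]
    exact IsLocalization.lift_eq _ t
  refine Algebra.Smooth.of_equiv (AlgEquiv.ofBijective fwd ⟨?_, fun c => ?_⟩)
  · have hrep : ∀ w : k ⊗[R] Localization.Away (algebraMap R T P), ∃ t : T, w = z t := by
      intro w
      induction w using TensorProduct.induction_on with
      | zero => exact ⟨0, (map_zero z).symm⟩
      | add x y hx hy =>
        obtain ⟨t, rfl⟩ := hx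
        obtain ⟨t', rfl⟩ := hy
        exact ⟨t + t', (map_add z t t').symm⟩
      | tmul a x =>
        obtain ⟨r, rfl⟩ := hRk a
        obtain ⟨⟨t, ⟨_, n, rfl⟩⟩, hx⟩ := IsLocalization.surj (Submonoid.powers (algebraMap R T P)) x
        obtain ⟨q, hq⟩ := hRk ((algebraMap R k (P ^ n))⁻¹)
        refine ⟨algebraMap R T (r * q) * t, ?_⟩
        rw [map_mul, z.commutes]
        show _ = _ * ((1 : k) ⊗ₜ[R] algebraMap T _ t)
        rw [← hx, map_pow, ← IsScalarTower.algebraMap_apply R T, ← map_pow,
          show algebraMap R (k ⊗[R] Localization.Away (algebraMap R T P)) (r * q) =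
            algebraMap R k (r * q) ⊗ₜ[R] (1 : Localization.Away (algebraMap R T P)) from rfl,
          Algebra.TensorProduct.tmul_mul_tmul, mul_one, one_mul, mul_comm x, ← Algebra.smul_def,
          TensorProduct.tmul_smul, TensorProduct.smul_tmul', Algebra.smul_def]
        congr 1
        rw [map_mul, hq]
        field_simp [show algebraMap R k (P ^ n) ≠ 0 by rw [map_pow]; exact pow_ne_zero n hP]
    rw [injective_iff_map_eq_zero]
    intro w hw
    obtain ⟨t, rfl⟩ := hrep w
    exact hz (show evT t = 0 from (hfz t).symm.trans hw)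
  · obtain ⟨t, rfl⟩ := hsurj c
    exact ⟨z t, hfz t⟩

/-- Specialising the parameters in a smooth localisation of the total space. -/
theorem smooth_specialise (g : Fin m → B) (P : MvPolynomial (Fin m) k)
    (hTP : Algebra.Smooth (MvPolynomial (Fin m) k)
      (Localization.Away (algebraMap (MvPolynomial (Fin m) k) (MvPolynomial (Fin m) B ⧸
        Ideal.span {∑ i, MvPolynomial.C (g i) * MvPolynomial.X i}) P)))
    (c : Fin m → k) (hc : eval c P ≠ 0) : Algebra.Smooth k (B ⧸ Ideal.span {∑ i, c i • g i}) := by
  let R := MvPolynomial (Fin m) k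
  let S := MvPolynomial (Fin m) B
  let f : S := ∑ i, MvPolynomial.C (g i) * MvPolynomial.X i
  let T := S ⧸ Ideal.span {f}
  let TP := Localization.Away (algebraMap R T P)
  haveI : Algebra.Smooth R (Localization.Away (algebraMap R T P)) := hTP
  let f0 : B := ∑ i, c i • g i
  let C0 := B ⧸ Ideal.span {f0}
  let ev : S →+* C0 := eval₂Hom (Ideal.Quotient.mk _) fun i => algebraMap k C0 (c i)
  have hevf : ev f = 0 := by
    have e : ev f = Ideal.Quotient.mk (Ideal.span {f0}) f0 := by
      simp only [ev, f, f0, map_sum, map_mul]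
      refine Finset.sum_congr rfl fun i _ => ?_
      rw [eval₂Hom_C, eval₂Hom_X', Algebra.smul_def, map_mul, mul_comm]
      rfl
    rw [e, Ideal.Quotient.eq_zero_iff_mem]
    exact Ideal.subset_span rfl
  let evT : T →+* C0 := Ideal.Quotient.lift _ ev fun x hx => by
    obtain ⟨y, rfl⟩ := Ideal.mem_span_singleton'.mp hx
    rw [map_mul, hevf, mul_zero]
  let evR : R →+* k := eval c
  have hRT : ∀ r : R, evT (algebraMap R T r) = algebraMap k C0 (evR r) := by
    intro r
    show ev (map (algebraMap k B) r) = _
    rw [coe_eval₂Hom, eval₂_map]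
    show eval₂ _ _ r = algebraMap k C0 (eval₂ (RingHom.id k) c r)
    rw [eval₂_comp_left]
    rfl
  letI : Algebra R k := evR.toAlgebra
  letI : Algebra R C0 := ((algebraMap k C0).comp evR).toAlgebra
  haveI : IsScalarTower R k C0 := IsScalarTower.of_algebraMap_eq fun _ => rfl
  refine smooth_of_specialise (fun x => ⟨MvPolynomial.C x, eval_C (f := c) x⟩) P hc
    ({ evT with commutes' := hRT } : T →ₐ[R] C0) (fun x => ?_) ?_
  · obtain ⟨b, rfl⟩ := Ideal.Quotient.mk_surjective x
    exact ⟨Ideal.Quotient.mk _ (MvPolynomial.C b), eval₂Hom_C _ _ _⟩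
  · intro t ht
    obtain ⟨p, rfl⟩ := Ideal.Quotient.mk_surjective t
    set M := (RingHom.ker (algebraMap R k)).map (algebraMap R T)
    let e0 : S →+* B := eval₂Hom (RingHom.id B) fun i => algebraMap k B (c i)
    have hXc : ∀ i, Ideal.Quotient.mk (Ideal.span {f}) (MvPolynomial.X i) -
        Ideal.Quotient.mk _ (MvPolynomial.C (algebraMap k B (c i))) ∈ M := fun i => by
      have h := Ideal.mem_map_of_mem (algebraMap R T)
        (show MvPolynomial.X i - MvPolynomial.C (c i) ∈ RingHom.ker (algebraMap R k) from by
          show eval c (MvPolynomial.X i - MvPolynomial.C (c i)) = 0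
          simp)
      rw [map_sub] at h
      convert h using 2 <;>
        · show Ideal.Quotient.mk _ _ = Ideal.Quotient.mk _ (MvPolynomial.map (algebraMap k B) _)
          simp
    have hcong : ∀ q : S, Ideal.Quotient.mk (Ideal.span {f}) q -
        Ideal.Quotient.mk _ (MvPolynomial.C (e0 q)) ∈ M := by
      intro q
      induction q using MvPolynomial.induction_on with
      | C b => rw [show e0 (MvPolynomial.C b) = b from eval₂_C _ _ _, sub_self]; exact M.zero_mem
      | add q q' hq hq' =>
        rw [map_add, map_add, map_add, map_add, add_sub_add_comm]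
        exact add_mem hq hq'
      | mul_X q i hq =>
        rw [map_mul, map_mul, map_mul, map_mul, show e0 (MvPolynomial.X i) = algebraMap k B (c i) from eval₂_X _ _ _]
        exact Ideal.mul_sub_mul_mem M hq (hXc i)
    have h0 : ev p = 0 := ht
    have hev : ev = (Ideal.Quotient.mk (Ideal.span {f0})).comp e0 := by
      refine MvPolynomial.ringHom_ext (fun b => ?_) fun i => ?_
      · rw [RingHom.comp_apply, show e0 (MvPolynomial.C b) = b from eval₂_C _ _ _]
        exact eval₂_C _ _ _
      · rw [RingHom.comp_apply, show e0 (MvPolynomial.X i) = algebraMap k B (c i) from eval₂_X _ _ _]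
        exact eval₂_X _ _ _
    rw [hev, RingHom.comp_apply, Ideal.Quotient.eq_zero_iff_mem, Ideal.mem_span_singleton'] at h0
    obtain ⟨b, hb⟩ := h0
    have hf0 : e0 f = f0 := by
      simp only [e0, f, f0, map_sum, map_mul]
      refine Finset.sum_congr rfl fun i _ => ?_
      rw [eval₂Hom_C, eval₂Hom_X', Algebra.smul_def, mul_comm]
      rfl
    have h1 : Ideal.Quotient.mk (Ideal.span {f}) (MvPolynomial.C f0) ∈ M := by
      have := hcong f
      rw [Ideal.Quotient.eq_zero_iff_mem.mpr (Ideal.mem_span_singleton_self f), zero_sub, neg_mem_iff, hf0] at this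
      exact this
    have h2 : Ideal.Quotient.mk (Ideal.span {f}) (MvPolynomial.C (e0 p)) ∈ M := by
      rw [← hb, map_mul, map_mul]
      exact M.mul_mem_left _ h1
    have h3 := add_mem (hcong p) h2
    rwa [sub_add_cancel] at h3

variable [CharZero k]

/-- In characteristic zero a general member of a generating linear system is smooth. -/
theorem exists_poly_smooth_charZero [Algebra.Smooth k B] (g : Fin m → B)
    (hg : Ideal.span (Set.range g) = ⊤) :
    ∃ P : MvPolynomial (Fin m) k, P ≠ 0 ∧ ∀ c : Fin m → k, eval c P ≠ 0 →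
      Algebra.Smooth k (B ⧸ Ideal.span {∑ i, c i • g i}) := by
  classical
  let R := MvPolynomial (Fin m) k
  let S := MvPolynomial (Fin m) B
  let f : S := ∑ i, MvPolynomial.C (g i) * MvPolynomial.X i
  let T := S ⧸ Ideal.span {f}
  haveI hTsm : Algebra.Smooth k T := smooth_totalSpace g hg
  haveI : Algebra.FiniteType R T := Algebra.FiniteType.of_restrictScalars_finiteType k R T
  haveI : Algebra.FinitePresentation R T := Algebra.FinitePresentation.of_finiteType.mp inferInstance
  obtain ⟨I, hI⟩ := (PrimeSpectrum.isClosed_iff_zeroLocus_ideal _).mp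
    (Algebra.isOpen_smoothLocus (R := R) (A := T)).isClosed_compl
  have hex : ∃ P : R, P ≠ 0 ∧ algebraMap R T P ∈ I := by
    by_contra hcon
    push Not at hcon
    have hdisj : Disjoint (I : Set T) (Submonoid.map (algebraMap R T).toMonoidHom (nonZeroDivisors R)) := by
      rw [Set.disjoint_left]
      rintro _ hx ⟨P, hP, rfl⟩
      exact hcon P (nonZeroDivisors.ne_zero hP) hx
    obtain ⟨Q, hQ, hIQ, hQS⟩ := Ideal.exists_le_prime_disjoint I _ hdisj
    haveI := hQ
    haveI : CharZero R := charZero_of_injective_algebraMap (algebraMap k R).injective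
    have hsm : Algebra.IsSmoothAt R Q := isSmoothAt_of_generic (k := k) Q fun P hP hmem =>
      Set.disjoint_left.mp hQS hmem ⟨P, mem_nonZeroDivisors_of_ne_zero hP, rfl⟩
    have hmem : (⟨Q, hQ⟩ : PrimeSpectrum T) ∈ PrimeSpectrum.zeroLocus (I : Set T) := hIQ
    rw [← hI] at hmem
    exact hmem hsm
  obtain ⟨P, hP0, hPI⟩ := hex
  let TP := Localization.Away (algebraMap R T P)
  haveI : Algebra.Smooth R TP := by
    rw [← Algebra.basicOpen_subset_smoothLocus_iff_smooth]
    intro p hp
    by_contra hns
    have hp' : p ∈ PrimeSpectrum.zeroLocus (I : Set T) := hI ▸ hns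
    exact hp (hp' hPI)
  exact ⟨P, hP0, fun c hc => smooth_specialise g P inferInstance c hc⟩

end GrothLib.Jets
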