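import Groth.Agent.Lib.Jets.Engine
import Groth.Agent.Lib.Jets.ZeroIdeal
import Groth.Agent.Lib.Mero.DivMod
import Groth.Prelude.Def_Formal

/-! # Affine charts for zero schemes: smoothness criterion, secVal linearity, jets -/

set_option backward.isDefEq.respectTransparency false
set_option backward.isDefEq.respectTransparency.types false

universe u

open CategoryTheory CategoryTheory.Limits AlgebraicGeometry TopologicalSpace Opposite
open GrothLib.InvExt (mres IsGen)

noncomputable section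

namespace GrothLib.Jets

variable {k : Type u} [Field k] {Y : Scheme.{u}} [Y.Over (Spec (CommRingCat.of k))]

/-- The constants in the functions on an open. -/
def constHom (U : Y.Opens) : k →+* Γ(Y, U) :=
  (Coh.resTop Y (op U)).comp (Coh.toGlobal (Y ↘ Spec (CommRingCat.of k)))

theorem constHom_eq (U : Y.Opens) :
    CommRingCat.ofHom (constHom (k := k) U) =
      (Scheme.ΓSpecIso (CommRingCat.of k)).inv ≫
        (Y ↘ Spec (CommRingCat.of k)).appLE ⊤ U le_top := by
  ext x
  rfl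

abbrev constAlgebra (U : Y.Opens) : Algebra k Γ(Y, U) := (constHom U).toAlgebra

theorem fromSpec_over {U : Y.Opens} (hU : IsAffineOpen U) :
    hU.fromSpec ≫ (Y ↘ Spec (CommRingCat.of k)) = Spec.map (CommRingCat.ofHom (constHom (k := k) U)) := by
  rw [constHom_eq, Spec.map_comp,
    ← IsAffineOpen.SpecMap_appLE_fromSpec (Y ↘ Spec (CommRingCat.of k)) (isAffineOpen_top _) hU le_top,
    IsAffineOpen.fromSpec_top]
  congr 1
  rw [Scheme.isoSpec_Spec_inv]

theorem smooth_constHom [Smooth (Y ↘ Spec (CommRingCat.of k))] (U : Y.affineOpens) :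
    letI := constAlgebra (k := k) U.1
    Algebra.Smooth k Γ(Y, U) := by
  letI := constAlgebra (k := k) U.1
  refine RingHom.smooth_algebraMap.mp ?_
  have h := HasRingHomProperty.appLE @Smooth (Y ↘ Spec (CommRingCat.of k)) inferInstance
    ⟨⊤, isAffineOpen_top _⟩ U le_top
  exact RingHom.Smooth.respectsIso.2 _ (Scheme.ΓSpecIso (CommRingCat.of k)).commRingCatIsoToRingEquiv.symm h

/-- Smoothness of a closed subscheme over `k` is checked on an affine cover. -/
theorem smooth_subschemeι_over (I : Y.IdealSheafData) {ι : Type u} (U : ι → Y.affineOpens)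
    (hcov : ∀ y : Y, ∃ i, y ∈ (U i).1)
    (h : ∀ i, letI := constAlgebra (k := k) (U i).1; Algebra.Smooth k (Γ(Y, (U i).1) ⧸ I.ideal (U i))) :
    Smooth (I.subschemeι ≫ (Y ↘ Spec (CommRingCat.of k))) := by
  let 𝒰 : I.subscheme.OpenCover :=
    Scheme.Cover.mkOfCovers ι (fun i => Spec (CommRingCat.of (Γ(Y, (U i).1) ⧸ I.ideal (U i))))
      (fun i => I.subschemeCover.f (U i))
      (fun x => by
        obtain ⟨i, hi⟩ := hcov (I.subschemeι x)
        have : x ∈ (I.subschemeCover.f (U i)).opensRange := by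
          rw [I.opensRange_subschemeCover_map (U i)]; exact hi
        obtain ⟨y, hy⟩ := this
        exact ⟨i, y, hy⟩)
      (fun i => inferInstanceAs (IsOpenImmersion (I.subschemeCover.f (U i))))
  rw [IsZariskiLocalAtSource.iff_of_openCover (P := @Smooth) 𝒰]
  intro i
  letI := constAlgebra (k := k) (U i).1
  show Smooth (I.subschemeCover.f (U i) ≫ I.subschemeι ≫ (Y ↘ Spec (CommRingCat.of k)))
  rw [reassoc_of% I.subschemeCover_map_subschemeι (U i), reassoc_of% I.glueDataObjι_ι (U i),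
    fromSpec_over, ← Spec.map_comp, HasRingHomProperty.Spec_iff (P := @Smooth)]
  exact RingHom.smooth_algebraMap.mpr (h i)

theorem secVal_sum_smulMod (L : Y.Modules) {m : ℕ} (s : Fin m → (Coh.structureModule Y ⟶ L))
    (c : Fin m → k) (U : Y.Opens) :
    (show Γ(L, U) from PicF2.secVal L (∑ i, Formal.smulMod k (Coh.structureModule Y) (c i) ≫ s i) U) =
      ∑ i, constHom U (c i) • (show Γ(L, U) from PicF2.secVal L (s i) U) := by
  let ev : (Coh.structureModule Y ⟶ L) →+ Γ(L, U) :=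
    { toFun := fun φ => PicF2.secVal L φ U
      map_zero' := rfl
      map_add' := fun _ _ => rfl }
  show ev (∑ i, Formal.smulMod k (Coh.structureModule Y) (c i) ≫ s i) = _
  rw [map_sum]
  refine Finset.sum_congr rfl fun i _ => ?_
  show (s i).app U (constHom U (c i) * 1) = _
  rw [mul_one]
  exact GrothLib.Mero.Zero.app_eq_smul_secVal L (s i) U _

theorem secVal_add_sum (L : Y.Modules) {m : ℕ} (s : Fin m → (Coh.structureModule Y ⟶ L))
    (f : Coh.structureModule Y ⟶ L) (c : Fin m → k) (U : Y.Opens) :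
    (show Γ(L, U) from PicF2.secVal L (f + ∑ i, Formal.smulMod k (Coh.structureModule Y) (c i) ≫ s i) U) =
      (show Γ(L, U) from PicF2.secVal L f U) +
        ∑ i, constHom U (c i) • (show Γ(L, U) from PicF2.secVal L (s i) U) := by
  rw [← secVal_sum_smulMod L s c U]
  rfl

theorem smul_germ_surjective {X : Scheme.{u}} {L : X.Modules} {V : X.Opens} {e : Γ(L, V)}
    (he : IsGen L V e) {y : X} (hy : y ∈ V) (l : ↥(L.presheaf.stalk y)) :
    ∃ a : ↥(X.presheaf.stalk y), a • L.presheaf.germ V y hy e = l := by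
  obtain ⟨a, ha⟩ :=
    (GrothLib.Ref1.stalk_of_isFrame ((GrothLib.InvExt.isGen_iff_isFrame (fun _ : Fin 1 => e)).mpr he) y hy).2 l
  exact ⟨a 0, Eq.trans (by simp [GrothLib.Ref1.stalkComb, Fintype.linearCombination_apply]) ha⟩

theorem isClosed_fromSpec_of_isMaximal [LocallyOfFiniteType (Y ↘ Spec (CommRingCat.of k))] (U : Y.affineOpens)
    (P : PrimeSpectrum Γ(Y, U)) (hP : P.asIdeal.IsMaximal) : IsClosed ({U.2.fromSpec P} : Set Y) := by
  haveI : JacobsonSpace Y := LocallyOfFiniteType.jacobsonSpace (Y ↘ Spec (CommRingCat.of k))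
  have h : P ∈ closedPoints (Spec Γ(Y, U)) := (PrimeSpectrum.isClosed_singleton_iff_isMaximal P).mpr hP
  rw [← (U.2.fromSpec.isOpenEmbedding).preimage_closedPoints] at h
  exact h

/-- The jet hypothesis in a trivialisation. -/
theorem exists_jet_affine [LocallyOfFiniteType (Y ↘ Spec (CommRingCat.of k))] {m : ℕ} (L : Y.Modules)
    (s : Fin m → (Coh.structureModule Y ⟶ L))
    (hjet : ∀ p : Y, IsClosed ({p} : Set Y) → ∀ l : ↥(L.presheaf.stalk p), ∃ c : Fin m → k,
      (L.presheaf.germ ⊤ p trivial)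
          (PicF2.secVal L (∑ i : Fin m, Formal.smulMod k (Coh.structureModule Y) (c i) ≫ s i) ⊤) - l ∈
        (IsLocalRing.maximalIdeal ↥(Y.presheaf.stalk p)) ^ 2 •
          (⊤ : Submodule ↥(Y.presheaf.stalk p) ↥(L.presheaf.stalk p)))
    (U : Y.affineOpens) {e : Γ(L, U.1)} (he : IsGen L U.1 e) (g : Fin m → Γ(Y, U))
    (hg : ∀ i, (show Γ(L, U.1) from PicF2.secVal L (s i) U.1) = g i • e) :
    letI := constAlgebra (k := k) U.1
    ∀ p : Ideal Γ(Y, U), p.IsMaximal → ∀ b : Γ(Y, U), ∃ c : Fin m → k, b - ∑ i, c i • g i ∈ p ^ 2 := by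
  letI := constAlgebra (k := k) U.1
  intro P hP b
  let z : PrimeSpectrum Γ(Y, U) := ⟨P, hP.isPrime⟩
  let p : Y := U.2.fromSpec z
  have hpU : p ∈ U.1 := by
    have h1 : p ∈ Set.range U.2.fromSpec := ⟨z, rfl⟩
    rwa [U.2.range_fromSpec] at h1
  obtain ⟨c, hc⟩ := hjet p (isClosed_fromSpec_of_isMaximal (k := k) U z hP) (L.presheaf.germ U.1 p hpU (b • e))
  refine ⟨c, ?_⟩
  let S := Y.presheaf.stalk p
  letI : Algebra Γ(Y, U) S := TopCat.Presheaf.algebra_section_stalk Y.presheaf ⟨p, hpU⟩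
  haveI : IsLocalization.AtPrime S P := U.2.isLocalization_stalk' z hpU
  let ge := L.presheaf.germ U.1 p hpU e
  have hsec : (L.presheaf.germ ⊤ p trivial)
      (PicF2.secVal L (∑ i : Fin m, Formal.smulMod k (Coh.structureModule Y) (c i) ≫ s i) ⊤) =
      Y.presheaf.germ U.1 p hpU (∑ i, c i • g i) • ge := by
    rw [← Mero.germ_smul, ← GrothLib.Mero.germ_mres L (le_top : U.1 ≤ ⊤) hpU]
    congr 1
    refine (GrothLib.Mero.Zero.secVal_eq_mres L _ U.1).symm.trans ?_
    rw [secVal_sum_smulMod, Finset.sum_smul]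
    refine Finset.sum_congr rfl fun i _ => ?_
    rw [hg i, smul_smul]
    rfl
  have hmem : ∀ x ∈ (IsLocalRing.maximalIdeal ↥S) ^ 2 • (⊤ : Submodule ↥S ↥(L.presheaf.stalk p)),
      ∃ a ∈ (IsLocalRing.maximalIdeal ↥S) ^ 2, x = a • ge := by
    intro x hx
    refine Submodule.smul_induction_on hx (fun r hr n _ => ?_) fun x y hx hy => ?_
    · obtain ⟨a, rfl⟩ := smul_germ_surjective he hpU n
      exact ⟨r * a, Ideal.mul_mem_right _ _ hr, by rw [smul_smul]⟩
    · obtain ⟨a, ha, rfl⟩ := hx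
      obtain ⟨a', ha', rfl⟩ := hy
      exact ⟨a + a', add_mem ha ha', (add_smul a a' ge).symm⟩
  rw [Mero.germ_smul, hsec, ← sub_smul] at hc
  obtain ⟨a, ha, heq⟩ := hmem _ hc
  have h0 : Y.presheaf.germ U.1 p hpU (∑ i, c i • g i) - Y.presheaf.germ U.1 p hpU b - a = 0 :=
    GrothLib.Mero.gen_smul_eq_zero he hpU (by rw [sub_smul, heq, sub_self])
  rw [sub_eq_zero.mp h0 |>.symm] at ha
  have hin : algebraMap Γ(Y, U) S (b - ∑ i, c i • g i) ∈ IsLocalRing.maximalIdeal ↥S ^ 2 := by
    rw [← neg_sub, map_neg, map_sub]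
    exact neg_mem ha
  rw [← Ideal.Quotient.eq_zero_iff_mem] at hin ⊢
  apply (IsLocalization.AtPrime.equivQuotMaximalIdealPow P (↥S) 2).injective
  rw [map_zero, IsLocalization.AtPrime.equivQuotMaximalIdealPow_apply_mk]
  exact hin

/-- A finite affine cover trivialising an invertible module. -/
theorem exists_finite_gen_cover [CompactSpace Y] {L : Y.Modules} (hL : PicF.IsInvertible L) :
    ∃ (ι : Type u) (_ : Finite ι) (U : ι → Y.affineOpens) (e : ∀ i, Γ(L, (U i).1)),
      (∀ y : Y, ∃ i, y ∈ (U i).1) ∧ ∀ i, IsGen L (U i).1 (e i) := by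
  choose V e hxV he using fun y : Y => GrothLib.InvExt.exists_gen_nhd hL y
  choose U hyU hUV using fun y : Y => GrothLib.BlowUp.exists_affine_mem_le (hxV y)
  obtain ⟨t, ht⟩ := isCompact_univ.elim_finite_subcover (fun y : Y => ((U y).1 : Set Y))
    (fun y => (U y).1.2) (fun y _ => Set.mem_iUnion.mpr ⟨y, hyU y⟩)
  refine ⟨{y : Y // y ∈ t}, inferInstance, fun y => U y.1, fun y => mres L (hUV y.1) (e y.1),
    fun y => ?_, fun y => (he y.1).restrict (hUV y.1)⟩
  obtain ⟨z, hzt, hz⟩ := Set.mem_iUnion₂.mp (ht (Set.mem_univ y))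
  exact ⟨⟨z, hzt⟩, hz⟩

end GrothLib.Jets
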