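import Groth.Agent.Lib.Jets.Count
import Groth.Agent.Lib.AlgMisc.SmoothRank
import Groth.Agent.Lib.RegLoc.Basic
import Groth.Agent.Lib.LocProp.RegularSmooth

/-! # Bertini for systems of functions separating 1-jets on a smooth affine variety -/

universe u

open TensorProduct

namespace GrothLib.Jets

variable {k : Type u} [Field k] [IsAlgClosed k] {B : Type u} [CommRing B] [Algebra k B] {m : ℕ}

theorem exists_point [Algebra.FiniteType k B] (p : Ideal B) [p.IsMaximal] :
    ∃ φ : B →ₐ[k] k, RingHom.ker φ.toRingHom = p := by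
  let _ := Ideal.Quotient.field p
  haveI : Module.Finite k (B ⧸ p) := finite_of_finite_type_of_isJacobsonRing k (B ⧸ p)
  let e : k ≃ₐ[k] B ⧸ p := AlgEquiv.ofBijective (Algebra.ofId k _) IsAlgClosed.algebraMap_bijective_of_isIntegral
  refine ⟨(e.symm : (B ⧸ p) →ₐ[k] k).comp (Ideal.Quotient.mkₐ k p), ?_⟩
  ext x
  simp [RingHom.mem_ker, Ideal.Quotient.eq_zero_iff_mem]

theorem deriv_eq_zero_of_mem_sq (φ : B →ₐ[k] k) {p : Ideal B} (hp : RingHom.ker φ.toRingHom = p)
    {M : Type u} [AddCommGroup M] [Module B M] [Module k M] [IsScalarTower k B M]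
    (D : Derivation k B M) (L : M →ₗ[B] B) {f : B} (hf : f ∈ p ^ 2) : φ (L (D f)) = 0 := by
  have h0 : ∀ x ∈ p, φ x = 0 := fun x hx => by rw [← hp] at hx; exact hx
  rw [pow_two] at hf
  refine Submodule.mul_induction_on hf (fun x hx y hy => ?_) fun x y hx hy => ?_
  · rw [D.leibniz, map_add, map_smul, map_smul, smul_eq_mul, smul_eq_mul, map_add, map_mul, map_mul,
      h0 x hx, h0 y hy, zero_mul, zero_mul, add_zero]
  · rw [map_add, map_add, map_add, hx, hy, add_zero]

theorem surjective_mulVec_of_forall_point [Algebra.FiniteType k B] {n : ℕ} (M : Matrix (Fin n) (Fin m) B)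
    (h : ∀ (φ : B →ₐ[k] k) (e : Fin n → k), ∃ c : Fin m → k, ∀ a, ∑ i, φ (M a i) * c i = e a) :
    Function.Surjective M.mulVec := by
  classical
  let N : Submodule B (Fin n → B) := LinearMap.range M.mulVecLin
  suffices hN : ∀ y : (Fin n → B) ⧸ N, y = 0 by
    intro e
    exact (Submodule.Quotient.mk_eq_zero N).mp (hN (Submodule.Quotient.mk e))
  suffices hann : (⊤ : Submodule B ((Fin n → B) ⧸ N)).annihilator = ⊤ by
    intro y
    rw [Ideal.eq_top_iff_one, Submodule.mem_annihilator] at hann
    simpa using hann y trivial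
  by_contra hne
  obtain ⟨p, hp, hle⟩ := Ideal.exists_le_maximal _ hne
  obtain ⟨φ, hφ⟩ := exists_point (k := k) p
  have hsm : (⊤ : Submodule B ((Fin n → B) ⧸ N)) ≤ p • ⊤ := by
    intro y _
    obtain ⟨e, rfl⟩ := Submodule.Quotient.mk_surjective N y
    obtain ⟨c, hc⟩ := h φ fun a => φ (e a)
    let x : Fin m → B := fun i => algebraMap k B (c i)
    have hmem : ∀ a, e a - (M.mulVec x) a ∈ p := fun a => by
      rw [← hφ, RingHom.mem_ker, map_sub, sub_eq_zero, Matrix.mulVec, dotProduct, map_sum]
      simp only [AlgHom.toRingHom_eq_coe, RingHom.coe_coe, map_mul, x, AlgHom.commutes,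
        Algebra.algebraMap_self, RingHom.id_apply]
      exact (hc a).symm
    have h1 : (Submodule.Quotient.mk e : (Fin n → B) ⧸ N) = Submodule.Quotient.mk (e - M.mulVec x) :=
      (Submodule.Quotient.eq N).mpr ⟨x, by simp⟩
    rw [h1, pi_eq_sum_univ (e - M.mulVec x), ← Submodule.mkQ_apply, map_sum]
    refine Submodule.sum_mem _ fun a _ => ?_
    rw [map_smul]
    exact Submodule.smul_mem_smul (hmem a) trivial
  obtain ⟨r, hr1, hr0⟩ :=
    Submodule.exists_sub_one_mem_and_smul_eq_zero_of_fg_of_le_smul p ⊤ Module.Finite.fg_top hsm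
  have hrp : r ∈ p := hle (Submodule.mem_annihilator.mpr hr0)
  exact hp.ne_top ((Ideal.eq_top_iff_one p).mpr (by simpa using p.sub_mem hrp hr1))

/-- The standard smooth case. -/
theorem exists_poly_not_mem_sq_std (d : ℕ) [Algebra.IsStandardSmoothOfRelativeDimension d k B]
    (g0 : B) (g : Fin m → B)
    (hjet : ∀ p : Ideal B, p.IsMaximal → ∀ b : B, ∃ c : Fin m → k, b - ∑ i, c i • g i ∈ p ^ 2) :
    ∃ P : MvPolynomial (Fin m) k, P ≠ 0 ∧ ∀ c : Fin m → k, MvPolynomial.eval c P ≠ 0 →
      ∀ p : Ideal B, p.IsMaximal → g0 + ∑ i, c i • g i ∉ p ^ 2 := by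
  classical
  rcases subsingleton_or_nontrivial B with hB | hB
  · exact ⟨1, one_ne_zero, fun c _ p hp => (hp.ne_top (Subsingleton.elim p ⊤)).elim⟩
  haveI := Algebra.IsStandardSmoothOfRelativeDimension.isStandardSmooth (R := k) (S := B) d
  have hrank : Module.finrank B Ω[B⁄k] = d := by
    rw [Module.finrank, Algebra.IsStandardSmoothOfRelativeDimension.rank_kaehlerDifferential d,
      Cardinal.toNat_natCast]
  let bas : Module.Basis (Fin d) B Ω[B⁄k] := Module.finBasisOfFinrankEq _ _ hrank
  let J : B → Fin (d + 1) → B := fun b => Fin.cons b fun l => bas.coord l (KaehlerDifferential.D k B b)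
  have hJ0 : ∀ (φ : B →ₐ[k] k) (p : Ideal B), RingHom.ker φ.toRingHom = p → ∀ f ∈ p ^ 2,
      ∀ a, φ (J f a) = 0 := by
    intro φ p hp f hf a
    refine Fin.cases ?_ (fun l => ?_) a
    · have : f ∈ p := Ideal.pow_le_self two_ne_zero hf
      rw [← hp] at this
      simpa [J] using this
    · simpa [J] using deriv_eq_zero_of_mem_sq φ hp (KaehlerDifferential.D k B) (bas.coord l) hf
  have hlin : ∀ (φ : B →ₐ[k] k) (b : B) (c : Fin m → k) a,
      φ (J (b + ∑ i, c i • g i) a) = φ (J b a) + ∑ i, φ (J (g i) a) * c i := by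
    intro φ b c a
    refine Fin.cases ?_ (fun l => ?_) a
    · simp [J, mul_comm]
    · have hcoord : ∀ (x : k) (ω : Ω[B⁄k]), bas.coord l (x • ω) = x • bas.coord l ω := fun x ω => by
        rw [← algebraMap_smul B x ω, map_smul, algebraMap_smul]
      simp only [J, Fin.cons_succ, map_add, map_sum, Derivation.map_smul, hcoord, map_smul]
      simp [mul_comm]
  have hsurj : Function.Surjective (Matrix.of fun a i => J (g i) a).mulVec := by
    refine surjective_mulVec_of_forall_point (k := k) _ fun φ e => ?_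
    have hall : ∀ ω : Ω[B⁄k], ∃ b : B, ∀ l, φ (bas.coord l ω) =
        φ (bas.coord l (KaehlerDifferential.D k B b)) := by
      intro ω
      have hω : ω ∈ Submodule.span B (Set.range (KaehlerDifferential.D k B)) := by
        rw [KaehlerDifferential.span_range_derivation]; trivial
      induction hω using Submodule.span_induction with
      | mem x hx => obtain ⟨b, rfl⟩ := hx; exact ⟨b, fun l => rfl⟩
      | zero => exact ⟨0, fun l => by simp⟩
      | add x y _ _ hx hy =>
        obtain ⟨b, hb⟩ := hx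
        obtain ⟨b', hb'⟩ := hy
        exact ⟨b + b', fun l => by simp only [map_add, hb l, hb' l]⟩
      | smul r x _ hx =>
        obtain ⟨b, hb⟩ := hx
        refine ⟨φ r • b, fun l => ?_⟩
        rw [LinearMap.map_smul, Derivation.map_smul, ← algebraMap_smul B (φ r) (KaehlerDifferential.D k B b),
          LinearMap.map_smul, smul_eq_mul, smul_eq_mul, map_mul, map_mul, hb l, AlgHom.commutes]
        rfl
    obtain ⟨b₁, hb₁⟩ := hall (∑ l, algebraMap k B (e l.succ) • bas l)
    let b : B := b₁ + algebraMap k B (e 0 - φ b₁)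
    have hb : ∀ a, φ (J b a) = e a := by
      refine Fin.cases ?_ fun l => ?_
      · simp [J, b]
      · have h1 := hb₁ l
        simp only [Module.Basis.coord_apply, bas.repr_sum_self, AlgHom.commutes,
          Algebra.algebraMap_self, RingHom.id_apply] at h1
        simp [J, b, map_add, ← h1]
    have hpmax : (RingHom.ker φ.toRingHom).IsMaximal :=
      RingHom.ker_isMaximal_of_surjective _ fun x => ⟨algebraMap k B x, φ.commutes x⟩
    obtain ⟨c, hc⟩ := hjet _ hpmax b
    refine ⟨c, fun a => ?_⟩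
    have h0 := hJ0 φ _ rfl _ hc a
    have hbsplit := hlin φ (b - ∑ i, c i • g i) c a
    rw [sub_add_cancel, h0, zero_add, hb] at hbsplit
    exact hbsplit.symm
  have ht : ∀ q : PrimeSpectrum B, ∃ t : ℕ, Algebra.trdeg k q.asIdeal.ResidueField = t ∧ t < d + 1 := by
    intro q
    obtain ⟨t, ht⟩ := Groth.Agent.Lib.AlgMisc.SmoothRank.exists_trdeg (k := k) q.asIdeal
    refine ⟨t, ht, ?_⟩
    haveI : IsNoetherianRing B := Algebra.FiniteType.isNoetherianRing k B
    obtain ⟨n, hn⟩ := Groth.Agent.Lib.AlgMisc.SmoothRank.exists_dim_eq_nat (Localization.AtPrime q.asIdeal)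
    have h := Groth.Agent.S2141.result q.asIdeal t ht
    rw [Groth.Agent.Lib.AlgMisc.SmoothRank.localDim_standardSmooth (k := k) d B q.asIdeal, hn] at h
    norm_cast at h
    omega
  obtain ⟨P, hP0, hP⟩ := exists_ne_zero_of_trdeg_lt (k := k) ht _ hsurj (J g0)
  refine ⟨P, hP0, fun c hc p hp hmem => ?_⟩
  obtain ⟨φ, hφ⟩ := exists_point (k := k) p
  obtain ⟨a, ha⟩ := hP φ c hc
  exact ha ((hlin φ g0 c a).symm.trans (hJ0 φ p hφ _ hmem a))

/-- A general member of a system separating 1-jets lies in no square of a maximal ideal. -/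
theorem exists_poly_not_mem_sq [Algebra.Smooth k B] (g0 : B) (g : Fin m → B)
    (hjet : ∀ p : Ideal B, p.IsMaximal → ∀ b : B, ∃ c : Fin m → k, b - ∑ i, c i • g i ∈ p ^ 2) :
    ∃ P : MvPolynomial (Fin m) k, P ≠ 0 ∧ ∀ c : Fin m → k, MvPolynomial.eval c P ≠ 0 →
      ∀ p : Ideal B, p.IsMaximal → g0 + ∑ i, c i • g i ∉ p ^ 2 := by
  classical
  obtain ⟨s, hs, hstd⟩ := Algebra.Smooth.exists_span_eq_top_isStandardSmooth k B
  obtain ⟨t, hts, ht⟩ := (Ideal.span_eq_top_iff_finite s).mp hs
  have key : ∀ h : t, ∃ P : MvPolynomial (Fin m) k, P ≠ 0 ∧ ∀ c : Fin m → k, MvPolynomial.eval c P ≠ 0 →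
      ∀ p : Ideal B, p.IsMaximal → (h : B) ∉ p → g0 + ∑ i, c i • g i ∉ p ^ 2 := by
    rintro ⟨h, hh⟩
    let Bh := Localization.Away h
    rcases subsingleton_or_nontrivial Bh with hsub | hnt
    · refine ⟨1, one_ne_zero, fun c _ p hp hhp => ?_⟩
      exfalso
      have : (0 : B) ∈ Submonoid.powers h := IsLocalization.subsingleton_iff.mp hsub
      obtain ⟨n, hn⟩ := this
      exact hhp (hp.isPrime.mem_of_pow_mem n (by rw [show h ^ n = 0 from hn]; exact p.zero_mem))
    obtain ⟨ι, σ, _, _, ⟨pres⟩⟩ := hstd h (hts hh)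
    haveI : Algebra.IsStandardSmoothOfRelativeDimension pres.dimension k Bh :=
      pres.isStandardSmoothOfRelativeDimension rfl
    obtain ⟨P, hP0, hP⟩ := exists_poly_not_mem_sq_std (k := k) pres.dimension (algebraMap B Bh g0)
      (fun i => algebraMap B Bh (g i)) (m := m) (by
        intro p' hp' b'
        obtain ⟨φ', hφ'⟩ := exists_point (k := k) p'
        let φ : B →ₐ[k] k := φ'.comp (IsScalarTower.toAlgHom k B Bh)
        have hpmax : (RingHom.ker φ.toRingHom).IsMaximal :=
          RingHom.ker_isMaximal_of_surjective _ fun x => ⟨algebraMap k B x, φ.commutes x⟩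
        set p := RingHom.ker φ.toRingHom with hp
        have hmap : p.map (algebraMap B Bh) ≤ p' := by
          rw [Ideal.map_le_iff_le_comap]
          intro x hx
          rw [Ideal.mem_comap, ← hφ']
          exact hx
        obtain ⟨⟨a, s'⟩, hs'⟩ := IsLocalization.surj (Submonoid.powers h) b'
        have hsp : (s' : B) ∉ p := fun hmem => by
          have hu : IsUnit (φ' (algebraMap B Bh s')) := (IsLocalization.map_units Bh s').map φ'
          exact hu.ne_zero hmem
        obtain ⟨u, v, hv, huv⟩ := hpmax.exists_inv hsp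
        obtain ⟨c, hc⟩ := hjet p hpmax (a * (u * (1 + v)))
        refine ⟨c, ?_⟩
        have h2 : (p ^ 2).map (algebraMap B Bh) ≤ p' ^ 2 := by
          rw [Ideal.map_pow]; exact Ideal.pow_right_mono hmap 2
        have hkey : algebraMap B Bh s' * (b' - algebraMap B Bh (a * (u * (1 + v)))) ∈ p' ^ 2 := by
          have hv2 : a * v ^ 2 ∈ p ^ 2 := Ideal.mul_mem_left _ _ (Ideal.pow_mem_pow hv 2)
          have e : algebraMap B Bh s' * (b' - algebraMap B Bh (a * (u * (1 + v)))) =
              algebraMap B Bh (a * v ^ 2) := by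
            have huv' : u * (s' : B) = 1 - v := by linear_combination huv
            rw [mul_sub, mul_comm _ b', hs', ← map_mul, ← map_sub]
            congr 1
            linear_combination -(a * (1 + v)) * huv'
          rw [e]
          exact h2 (Ideal.mem_map_of_mem _ hv2)
        have h3 : b' - algebraMap B Bh (a * (u * (1 + v))) ∈ p' ^ 2 := by
          obtain ⟨w, hw⟩ := IsLocalization.map_units Bh s'
          have := Ideal.mul_mem_left (p' ^ 2) (↑w⁻¹ : Bh) hkey
          rwa [← mul_assoc, ← hw, Units.inv_mul, one_mul] at this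
        have h4 := add_mem h3 (h2 (Ideal.mem_map_of_mem _ hc))
        rw [map_sub, map_sum, sub_add_sub_cancel] at h4
        simpa [Algebra.smul_def, ← IsScalarTower.algebraMap_apply] using h4)
    refine ⟨P, hP0, fun c hc p hp hhp hmem => ?_⟩
    obtain ⟨φ, hφ⟩ := exists_point (k := k) p
    have hu : ∀ y : Submonoid.powers h, IsUnit (φ y) := by
      rintro ⟨_, n, rfl⟩
      rw [map_pow]
      refine (isUnit_iff_ne_zero.mpr fun h0 => hhp ?_).pow n
      rw [← hφ]
      exact h0
    let φ' : Bh →ₐ[k] k := IsLocalization.liftAlgHom (f := φ) hu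
    have hmax : (RingHom.ker φ'.toRingHom).IsMaximal :=
      RingHom.ker_isMaximal_of_surjective _ fun x => ⟨algebraMap k Bh x, φ'.commutes x⟩
    refine hP c hc _ hmax ?_
    have hle : p.map (algebraMap B Bh) ≤ RingHom.ker φ'.toRingHom := by
      rw [Ideal.map_le_iff_le_comap]
      intro x hx
      rw [← hφ] at hx
      rw [Ideal.mem_comap, RingHom.mem_ker]
      exact (IsLocalization.lift_eq _ x).trans hx
    have := Ideal.pow_right_mono hle 2 ((Ideal.map_pow (algebraMap B Bh) p 2) ▸ Ideal.mem_map_of_mem _ hmem)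
    simpa [Algebra.smul_def, ← IsScalarTower.algebraMap_apply] using this
  choose P hP0 hP using key
  refine ⟨∏ h, P h, Finset.prod_ne_zero_iff.mpr fun h _ => hP0 h, fun c hc p hp => ?_⟩
  obtain ⟨h, hh, hhp⟩ : ∃ h ∈ t, h ∉ p := by
    by_contra hcon
    push Not at hcon
    exact hp.ne_top (top_le_iff.mp (ht ▸ Ideal.span_le.mpr hcon))
  rw [map_prod] at hc
  exact hP ⟨h, hh⟩ c (Finset.prod_ne_zero_iff.mp hc _ (Finset.mem_univ _)) p hp hhp

/-- A quotient of a smooth algebra by a function lying in no square of a maximal ideal is smooth. -/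
theorem smooth_quotient_of_not_mem_sq [Algebra.Smooth k B] (f : B)
    (h : ∀ p : Ideal B, p.IsMaximal → f ∉ p ^ 2) : Algebra.Smooth k (B ⧸ Ideal.span {f}) := by
  let I := Ideal.span {f}
  haveI : Algebra.FiniteType k (B ⧸ I) :=
    Algebra.FiniteType.of_surjective (Ideal.Quotient.mkₐ k I) Ideal.Quotient.mk_surjective
  haveI hfp : Algebra.FinitePresentation k (B ⧸ I) := Algebra.FinitePresentation.of_finiteType.mp inferInstance
  have hmax : ∀ P : Ideal (B ⧸ I), [P.IsMaximal] → Algebra.IsSmoothAt k P := by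
    intro P hP
    let p := P.comap (Ideal.Quotient.mk I)
    haveI hpm : p.IsMaximal := Ideal.comap_isMaximal_of_surjective _ Ideal.Quotient.mk_surjective
    haveI := GrothLib.Serre.isRegularLocalRing_of_isSmoothAt (k := k) p
    let S := Localization.AtPrime p
    have hfp' : f ∈ p := by
      show Ideal.Quotient.mk I f ∈ P
      rw [Ideal.Quotient.eq_zero_iff_mem.mpr (Ideal.mem_span_singleton_self f)]
      exact P.zero_mem
    have hM : Algebra.algebraMapSubmonoid (B ⧸ I) p.primeCompl = P.primeCompl := by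
      ext y
      constructor
      · rintro ⟨z, hz, rfl⟩
        exact hz
      · intro hy
        obtain ⟨z, rfl⟩ := Ideal.Quotient.mk_surjective y
        exact ⟨z, hy, rfl⟩
    haveI : IsLocalization P.primeCompl (S ⧸ I.map (algebraMap B S)) :=
      hM ▸ inferInstanceAs (IsLocalization (Algebra.algebraMapSubmonoid (B ⧸ I) p.primeCompl) _)
    have h1 : algebraMap B S f ∈ IsLocalRing.maximalIdeal S := by
      rw [← Localization.AtPrime.map_eq_maximalIdeal]
      exact Ideal.mem_map_of_mem _ hfp'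
    have h2 : algebraMap B S f ∉ IsLocalRing.maximalIdeal S ^ 2 := fun hmem => by
      apply h p hpm
      rw [← Ideal.Quotient.eq_zero_iff_mem] at hmem ⊢
      apply (IsLocalization.AtPrime.equivQuotMaximalIdealPow p S 2).injective
      rw [map_zero, IsLocalization.AtPrime.equivQuotMaximalIdealPow_apply_mk]
      exact hmem
    haveI : IsRegularLocalRing (S ⧸ I.map (algebraMap B S)) := by
      haveI := (GrothLib.RegLoc.quotient_isRegularLocalRing h1 h2).1
      exact IsRegularLocalRing.of_ringEquiv (Ideal.quotEquivOfEq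
        (show Ideal.span {algebraMap B S f} = I.map (algebraMap B S) by
          rw [Ideal.map_span, Set.image_singleton]))
    haveI : IsRegularLocalRing (Localization.AtPrime P) :=
      IsRegularLocalRing.of_ringEquiv (IsLocalization.algEquiv P.primeCompl
        (S ⧸ I.map (algebraMap B S)) (Localization.AtPrime P)).toRingEquiv
    exact GrothLib.LocProp.isSmoothAt_of_isRegularLocalRing_of_perfectField P
  refine ⟨Algebra.smoothLocus_eq_univ_iff.mp (Set.eq_univ_iff_forall.mpr fun P => ?_), hfp⟩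
  obtain ⟨M, hM, hPM⟩ := Ideal.exists_le_maximal P.asIdeal P.2.ne_top
  exact Specializes.mem_open ((PrimeSpectrum.le_iff_specializes P ⟨M, hM.isPrime⟩).mp hPM)
    Algebra.isOpen_smoothLocus (hmax M)

end GrothLib.Jets
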