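import Groth.Agent.Lib.Jets.Engine
import Groth.Agent.Lib.CurveMult.SepImm
import Groth.Agent.Lib.Jets.Scheme
import Groth.Agent.Lib.GradedAlg.ProjClosed

/-! # Hyperplane sections of a closed subscheme of projective space, chart by chart -/

set_option backward.isDefEq.respectTransparency false
set_option backward.isDefEq.respectTransparency.types false

universe u

open CategoryTheory CategoryTheory.Limits AlgebraicGeometry TopologicalSpace Opposite

noncomputable section

namespace GrothLib.Jets

/-- Generators of an algebra together with `1` separate 1-jets. -/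
theorem jets_of_generators {k : Type u} [Field k] [IsAlgClosed k] {B : Type u} [CommRing B] [Algebra k B]
    [Algebra.FiniteType k B] {m : ℕ} (g : Fin m → B) (j : Fin m) (hj : g j = 1)
    (hgen : ∀ b : B, ∃ a : MvPolynomial (Fin m) k, MvPolynomial.aeval g a = b)
    (p : Ideal B) [p.IsMaximal] (b : B) : ∃ c : Fin m → k, b - ∑ i, c i • g i ∈ p ^ 2 := by
  classical
  obtain ⟨φ, hφ⟩ := exists_point (k := k) p
  have hp : ∀ x : B, x - algebraMap k B (φ x) ∈ p := fun x => by
    rw [← hφ, RingHom.mem_ker]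
    show φ (x - algebraMap k B (φ x)) = 0
    rw [map_sub, φ.commutes, Algebra.algebraMap_self, RingHom.id_apply, sub_self]
  have hC : ∀ r : k, ∑ i, (Pi.single j r : Fin m → k) i • g i = algebraMap k B r := fun r => by
    rw [Finset.sum_eq_single j (fun i _ hi => by rw [Pi.single_eq_of_ne hi, zero_smul])
      (fun h => (h (Finset.mem_univ j)).elim), Pi.single_eq_same, hj, Algebra.algebraMap_eq_smul_one]
  obtain ⟨a, rfl⟩ := hgen b
  induction a using MvPolynomial.induction_on with
  | C r => exact ⟨Pi.single j r, by simp [hC]⟩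
  | add x y hx hy =>
    obtain ⟨c, hc⟩ := hx
    obtain ⟨c', hc'⟩ := hy
    refine ⟨c + c', ?_⟩
    have e := add_mem hc hc'
    rw [sub_add_sub_comm, ← Finset.sum_add_distrib] at e
    simpa [add_smul] using e
  | mul_X x i hx =>
    obtain ⟨c, hc⟩ := hx
    set y := MvPolynomial.aeval g x
    refine ⟨φ (g i) • c + Pi.single i (φ y) + Pi.single j (-(φ y * φ (g i))), ?_⟩
    have h1 : (y - algebraMap k B (φ y)) * (g i - algebraMap k B (φ (g i))) ∈ p ^ 2 := by
      rw [pow_two]; exact Ideal.mul_mem_mul (hp y) (hp (g i))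
    have h2 : algebraMap k B (φ (g i)) * (y - ∑ l, c l • g l) ∈ p ^ 2 := Ideal.mul_mem_left _ _ hc
    have hs : ∑ l, (φ (g i) • c + Pi.single i (φ y) + Pi.single j (-(φ y * φ (g i))) : Fin m → k) l • g l =
        algebraMap k B (φ (g i)) * ∑ l, c l • g l + algebraMap k B (φ y) * g i
          - algebraMap k B (φ y) * algebraMap k B (φ (g i)) := by
      simp only [Pi.add_apply, Pi.smul_apply, smul_eq_mul, add_smul, Finset.sum_add_distrib, hC, mul_smul,
        ← Finset.smul_sum]
      have hS : ∀ r : k, ∑ x, (Pi.single i r : Fin m → k) x • g x = r • g i := fun r => by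
        rw [Finset.sum_eq_single i (fun l _ hl => by rw [Pi.single_eq_of_ne hl, zero_smul])
          (fun h => (h (Finset.mem_univ i)).elim), Pi.single_eq_same]
      rw [hS, map_neg, map_mul, Algebra.smul_def, Algebra.smul_def]
      ring
    rw [map_mul, MvPolynomial.aeval_X, hs]
    have e := add_mem h1 h2
    convert e using 1
    ring

variable {k : Type u} [Field k] {n : ℕ} {X : Scheme.{u}} (ι : X ⟶ CohB1.ProjSpace n k)

/-- The standard chart of `X`. -/
def chartX [IsAffineHom ι] (j : Fin (n + 1)) : X.affineOpens :=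
  ⟨ι ⁻¹ᵁ CurveMult.SepImm.D (k := k) j,
    (Proj.isAffineOpen_basicOpen _ _ (Ample.ProjMap.X_mem j) one_pos).preimage ι⟩

variable [IsClosedImmersion ι]

/-- Functions `a / X_j ^ m` on the chart. -/
def theta (j : Fin (n + 1)) :
    HomogeneousLocalization.Away (CohB1.polyGrading n k) (MvPolynomial.X j) →+* Γ(X, (chartX ι j).1) :=
  (ι.app (CurveMult.SepImm.D (k := k) j)).hom.comp
    (Proj.awayToSection (CohB1.polyGrading n k) (MvPolynomial.X j)).hom

/-- The coordinate ratios on the chart. -/
def coord (j i : Fin (n + 1)) : Γ(X, (chartX ι j).1) := theta ι j (Ample.ProjMap.ratio j i)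

theorem theta_surjective (j : Fin (n + 1)) : Function.Surjective (theta ι j) :=
  (ι.app_surjective _ (Proj.isAffineOpen_basicOpen _ _ (Ample.ProjMap.X_mem j) one_pos)).comp
    (GrothLib.GradedAlg.awayToSection_bijective _ (Ample.ProjMap.X_mem j) one_pos).2

theorem coord_self (j : Fin (n + 1)) : coord ι j j = 1 := by
  rw [coord, CurveMult.SepImm.ratio_self, map_one]

variable [X.Over (Spec (CommRingCat.of k))]

theorem theta_cst (hι : ι ≫ CohB1.ProjSpace.toSpec n k = X ↘ Spec (CommRingCat.of k)) (j : Fin (n + 1)) (r : k) :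
    theta ι j (Ample.ProjMap.cst (MvPolynomial.X j) r) = constHom (chartX ι j).1 r := by
  show (ι.app _).hom ((Proj.awayToSection _ _).hom _) = _
  rw [CurveMult.SepImm.awayToSection_cst]
  exact CurveMult.SepImm.ψ_cD ι hι j r

theorem exists_aeval_coord (hι : ι ≫ CohB1.ProjSpace.toSpec n k = X ↘ Spec (CommRingCat.of k)) (j : Fin (n + 1))
    (b : Γ(X, (chartX ι j).1)) :
    letI := constAlgebra (k := k) (chartX ι j).1
    ∃ a : MvPolynomial (Fin (n + 1)) k, MvPolynomial.aeval (coord ι j) a = b := by
  letI := constAlgebra (k := k) (chartX ι j).1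
  obtain ⟨z, rfl⟩ := theta_surjective ι j b
  obtain ⟨a, rfl⟩ := Ample.ProjMap.exists_eval_ratio j z
  refine ⟨a, ?_⟩
  rw [MvPolynomial.map_eval₂Hom]
  exact congrFun (congrArg (fun f => DFunLike.coe (MvPolynomial.eval₂Hom f fun i => coord ι j i))
    (RingHom.ext fun r => (theta_cst ι hι j r).symm)) a

theorem finiteType_chart (hι : ι ≫ CohB1.ProjSpace.toSpec n k = X ↘ Spec (CommRingCat.of k)) (j : Fin (n + 1)) :
    letI := constAlgebra (k := k) (chartX ι j).1
    Algebra.FiniteType k Γ(X, (chartX ι j).1) := by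
  letI := constAlgebra (k := k) (chartX ι j).1
  exact Algebra.FiniteType.of_surjective (MvPolynomial.aeval (coord ι j)) fun b => exists_aeval_coord ι hι j b

theorem mem_chart_iff (j : Fin (n + 1)) (x : X) :
    x ∈ (chartX ι j).1 ↔ (MvPolynomial.X j : MvPolynomial (Fin (n + 1)) k) ∉ (ι.base x).asHomogeneousIdeal :=
  Iff.rfl

theorem frac_linear (h : ↥(CohB1.polyGrading n k 1)) (j : Fin (n + 1)) :
    GradedAlg.frac (CohB1.polyGrading n k) (Ample.ProjMap.X_mem j) 1 h h.2 =
      MvPolynomial.eval₂Hom (Ample.ProjMap.cst (MvPolynomial.X j)) (Ample.ProjMap.ratio j)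
      (∑ i, MvPolynomial.C (MvPolynomial.coeff (Finsupp.single i 1) (h : MvPolynomial (Fin (n + 1)) k)) *
        MvPolynomial.X i) := by
  let P := CohB1.polyGrading n k
  let z : HomogeneousLocalization.Away P (MvPolynomial.X j) :=
    GradedAlg.frac P (Ample.ProjMap.X_mem j) 1 h h.2
  show z = _
  refine HomogeneousLocalization.val_injective _ ?_
  let V : HomogeneousLocalization.Away P (MvPolynomial.X j) →+*
      Localization.Away (MvPolynomial.X j : MvPolynomial (Fin (n + 1)) k) := algebraMap _ _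
  have hsum : (h : MvPolynomial (Fin (n + 1)) k) = ∑ i,
      MvPolynomial.C (MvPolynomial.coeff (Finsupp.single i 1) (h : MvPolynomial (Fin (n + 1)) k)) *
        MvPolynomial.X i := by
    obtain ⟨c, hc⟩ := (Submodule.mem_span_range_iff_exists_fun k).mp
      (le_of_eq (MvPolynomial.homogeneousSubmodule_one_eq_span_X (σ := Fin (n + 1)) (R := k)) h.2)
    rw [← hc]
    refine Finset.sum_congr rfl fun i _ => ?_
    rw [MvPolynomial.coeff_sum, Finset.sum_eq_single i (fun l _ hl => ?_)
      (fun hh => (hh (Finset.mem_univ i)).elim), MvPolynomial.smul_eq_C_mul]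
    · rw [MvPolynomial.coeff_C_mul, MvPolynomial.coeff_X, if_pos rfl, mul_one]
    · rw [MvPolynomial.smul_eq_C_mul, MvPolynomial.coeff_C_mul, MvPolynomial.coeff_X',
        if_neg (fun e => hl ((Finsupp.single_left_injective one_ne_zero) e)), mul_zero]
  have hu : IsUnit (algebraMap (MvPolynomial (Fin (n + 1)) k)
      (Localization.Away (MvPolynomial.X j : MvPolynomial (Fin (n + 1)) k)) (MvPolynomial.X j)) :=
    IsLocalization.map_units _ (⟨MvPolynomial.X j, 1, pow_one _⟩ : Submonoid.powers (MvPolynomial.X j : MvPolynomial (Fin (n + 1)) k))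
  apply hu.mul_right_cancel
  show V z * _ = V _ * _
  simp only [map_sum, map_mul, MvPolynomial.eval₂Hom_C, MvPolynomial.eval₂Hom_X']
  rw [Finset.sum_mul]
  simp only [mul_assoc]
  show z.val * _ = ∑ i, (Ample.ProjMap.cst (MvPolynomial.X j) _).val *
    ((Ample.ProjMap.ratio j i).val * _)
  simp only [Ample.ProjMap.cst_val, Ample.ProjMap.ratio_val, ← map_mul]
  rw [← map_sum, ← hsum]
  simp only [z, HomogeneousLocalization.Away.val_mk]
  rw [Localization.mk_eq_mk', mul_comm, IsLocalization.mul_mk'_eq_mk'_of_mul, IsLocalization.mk'_eq_iff_eq_mul,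
    ← map_mul]
  simp [pow_one, mul_comm]

theorem theta_frac (hι : ι ≫ CohB1.ProjSpace.toSpec n k = X ↘ Spec (CommRingCat.of k))
    (h : ↥(CohB1.polyGrading n k 1)) (j : Fin (n + 1)) :
    letI := constAlgebra (k := k) (chartX ι j).1
    theta ι j (GradedAlg.frac (CohB1.polyGrading n k) (Ample.ProjMap.X_mem j) 1 h h.2) =
      ∑ i, MvPolynomial.coeff (Finsupp.single i 1) (h : MvPolynomial (Fin (n + 1)) k) • coord ι j i := by
  letI := constAlgebra (k := k) (chartX ι j).1
  rw [frac_linear, MvPolynomial.map_eval₂Hom]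
  simp only [map_sum, map_mul, MvPolynomial.eval₂Hom_C, MvPolynomial.eval₂Hom_X', RingHom.comp_apply]
  refine Finset.sum_congr rfl fun i _ => ?_
  rw [theta_cst ι hι, Algebra.smul_def]
  rfl

theorem stalkMap_symm_linear (hι : ι ≫ CohB1.ProjSpace.toSpec n k = X ↘ Spec (CommRingCat.of k))
    (h : ↥(CohB1.polyGrading n k 1)) (j : Fin (n + 1)) (x : X)
    (hj : (MvPolynomial.X j : MvPolynomial (Fin (n + 1)) k) ∉ (ι.base x).asHomogeneousIdeal) :
    letI := constAlgebra (k := k) (chartX ι j).1
    (ι.stalkMap x).hom ((Proj.stalkIso' (CohB1.polyGrading n k) (ι.base x)).symm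
      (HomogeneousLocalization.mk ⟨1, h, ⟨MvPolynomial.X j, MvPolynomial.isHomogeneous_X k j⟩, hj⟩)) =
    X.presheaf.germ (chartX ι j).1 x hj
      (∑ i, MvPolynomial.coeff (Finsupp.single i 1) (h : MvPolynomial (Fin (n + 1)) k) • coord ι j i) := by
  letI := constAlgebra (k := k) (chartX ι j).1
  let P := CohB1.polyGrading n k
  let z : HomogeneousLocalization.Away P (MvPolynomial.X j) :=
    GradedAlg.frac P (Ample.ProjMap.X_mem j) 1 h h.2
  have h1 : (Proj.stalkIso' P (ι.base x)).symm
      (HomogeneousLocalization.mk ⟨1, h, ⟨MvPolynomial.X j, MvPolynomial.isHomogeneous_X k j⟩, hj⟩) =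
      (CohB1.ProjSpace n k).presheaf.germ (CurveMult.SepImm.D (k := k) j) (ι.base x) hj
        ((Proj.awayToSection P (MvPolynomial.X j)).hom z) := by
    refine Eq.trans ?_ (ConcreteCategory.congr_hom
      (ProjectiveSpectrum.Proj.awayToSection_germ P (MvPolynomial.X j) (ι.base x) hj) z).symm
    show _ = (Proj.stalkIso' P (ι.base x)).symm (HomogeneousLocalization.mapId P (Submonoid.powers_le.mpr hj) z)
    refine congrArg _ (HomogeneousLocalization.val_injective _ ?_)
    simp [z, HomogeneousLocalization.mapId, HomogeneousLocalization.map_mk, HomogeneousLocalization.Away.mk,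
      HomogeneousLocalization.val_mk]
  rw [h1]
  refine (Scheme.Hom.germ_stalkMap_apply ι _ x hj _).trans (congrArg (X.presheaf.germ _ x hj) ?_)
  exact theta_frac ι hι h j

end GrothLib.Jets
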