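import Mathlib

/-! # Counting for affine-linear families: the incidence variety cannot dominate the parameter space -/

universe u

open MvPolynomial

namespace GrothLib.Jets

variable {k : Type u} [Field k]

/-- Algebraically independent solutions of `n` independent affine equations over a field of
transcendence degree `t` force `n ≤ t`. -/
theorem card_eqs_le_trdeg {F K : Type u} [Field F] [Field K] [Algebra k F] [Algebra F K] [Algebra k K]
    [IsScalarTower k F K] {n m t : ℕ} (ht : Algebra.trdeg k F = t) (M : Matrix (Fin n) (Fin m) F)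
    (hM : Function.Surjective M.mulVec) (v : Fin n → F) {c : Fin m → K}
    (hc : AlgebraicIndependent k c)
    (heq : ∀ a, algebraMap F K (v a) + ∑ i, algebraMap F K (M a i) * c i = 0) : n ≤ t := by
  classical
  obtain ⟨R, hR⟩ : ∃ R : Matrix (Fin m) (Fin n) F, M * R = 1 :=
    Matrix.mulVec_surjective_iff_exists_right_inverse.mp hM
  let N := LinearMap.ker M.mulVecLin
  let b := Module.finBasis F N
  set r := Module.finrank F N with hr
  have hrn : r + n = m := by
    have h : Module.finrank F (LinearMap.range M.mulVecLin) + Module.finrank F N =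
        Module.finrank F (Fin m → F) := LinearMap.finrank_range_add_finrank_ker M.mulVecLin
    rw [LinearMap.range_eq_top.mpr hM, finrank_top, Module.finrank_pi, Module.finrank_pi,
      Fintype.card_fin, Fintype.card_fin] at h
    omega
  let P : Matrix (Fin m) (Fin m) F := 1 - R * M
  have hP : M * P = 0 := by
    rw [Matrix.mul_sub, Matrix.mul_one, ← Matrix.mul_assoc, hR, Matrix.one_mul, sub_self]
  have hcol : ∀ i, (fun j => P j i) ∈ N := fun i => by
    rw [LinearMap.mem_ker, Matrix.mulVecLin_apply]
    funext a
    exact congrFun (congrFun hP a) i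
  let a : Fin m → Fin r → F := fun i l => b.repr ⟨_, hcol i⟩ l
  have ha : ∀ i j, P j i = ∑ l, a i l * (b l : Fin m → F) j := fun i j => by
    have h := congrFun (congrArg Subtype.val (b.sum_repr ⟨fun j => P j i, hcol i⟩)) j
    rw [Submodule.coe_sum, Finset.sum_apply] at h
    exact h.symm
  let y : Fin r → K := fun l => ∑ i, algebraMap F K (a i l) * c i
  let ev : MvPolynomial (Fin r) F →ₐ[k] K := (aeval y).restrictScalars k
  let p : Fin m → MvPolynomial (Fin r) F := fun j =>
    C (-∑ e, R j e * v e) + ∑ l, C ((b l : Fin m → F) j) * X l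
  have hp : ∀ j, ev (p j) = c j := fun j => by
    have h1 : ∀ e, ∑ i, algebraMap F K (M e i) * c i = -algebraMap F K (v e) := fun e =>
      eq_neg_of_add_eq_zero_right (heq e)
    have h2 : ∑ l, algebraMap F K ((b l : Fin m → F) j) * y l =
        ∑ i, algebraMap F K (P j i) * c i := by
      simp only [y, Finset.mul_sum]
      rw [Finset.sum_comm]
      refine Finset.sum_congr rfl fun i _ => ?_
      rw [ha i j, map_sum, Finset.sum_mul]
      refine Finset.sum_congr rfl fun l _ => ?_
      rw [map_mul]
      ring
    have h3 : ∑ i, algebraMap F K (P j i) * c i = c j + ∑ e, algebraMap F K (R j e) * algebraMap F K (v e) := by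
      have e1 : ∀ i, algebraMap F K (P j i) * c i =
          (if j = i then c i else 0) - ∑ e, algebraMap F K (R j e) * (algebraMap F K (M e i) * c i) := by
        intro i
        rw [show P j i = (1 : Matrix (Fin m) (Fin m) F) j i - ∑ e, R j e * M e i from rfl, map_sub, map_sum, sub_mul, Finset.sum_mul, Matrix.one_apply]
        congr 1
        · split_ifs <;> simp
        · exact Finset.sum_congr rfl fun e _ => by rw [map_mul, mul_assoc]
      simp only [e1, Finset.sum_sub_distrib, Finset.sum_ite_eq, Finset.mem_univ, if_true]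
      rw [Finset.sum_comm]
      simp only [← Finset.mul_sum, h1, mul_neg, Finset.sum_neg_distrib, sub_neg_eq_add]
    show aeval y (p j) = c j
    simp only [p, map_add, map_sum, map_mul, aeval_C, aeval_X, map_neg]
    rw [h2, h3]
    ring
  have hind : AlgebraicIndependent k p := by
    refine AlgebraicIndependent.of_comp ev ?_
    rw [show ev ∘ p = c from funext hp]
    exact hc
  have h1 := AlgebraicIndependent.lift_cardinalMk_le_trdeg hind
  have h2 := trdeg_add_eq k F (A := MvPolynomial (Fin r) F)
  rw [ht, MvPolynomial.trdeg_of_isDomain] at h2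
  rw [← h2] at h1
  simp only [Cardinal.mk_fin, Cardinal.lift_natCast, Cardinal.lift_id, Cardinal.lift_add] at h1
  norm_cast at h1
  omega

/-- If a surjective system of affine-linear equations has more equations than every residue field's
transcendence degree, the parameters admitting a `k`-point solution lie in a hypersurface. -/
theorem exists_ne_zero_of_trdeg_lt {B : Type u} [CommRing B] [Algebra k B] {n m : ℕ}
    (ht : ∀ q : PrimeSpectrum B, ∃ t : ℕ, Algebra.trdeg k q.asIdeal.ResidueField = t ∧ t < n)
    (M : Matrix (Fin n) (Fin m) B) (hM : Function.Surjective M.mulVec) (v : Fin n → B) :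
    ∃ P : MvPolynomial (Fin m) k, P ≠ 0 ∧ ∀ (φ : B →ₐ[k] k) (c : Fin m → k), eval c P ≠ 0 →
      ∃ a, φ (v a) + ∑ i, φ (M a i) * c i ≠ 0 := by
  classical
  let E : Fin n → MvPolynomial (Fin m) B := fun a => C (v a) + ∑ i, C (M a i) * X i
  let J : Ideal (MvPolynomial (Fin m) B) := Ideal.span (Set.range E)
  let ι : MvPolynomial (Fin m) k →+* MvPolynomial (Fin m) B := map (algebraMap k B)
  by_cases h : ∃ P, P ≠ 0 ∧ ι P ∈ J
  · obtain ⟨P, hP0, hPJ⟩ := h
    refine ⟨P, hP0, fun φ c hc => ?_⟩
    by_contra hcon
    push Not at hcon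
    let ψ : MvPolynomial (Fin m) B →+* k := eval₂Hom φ.toRingHom c
    have hJ : J ≤ RingHom.ker ψ := by
      rw [Ideal.span_le]
      rintro _ ⟨a, rfl⟩
      simpa [ψ, E] using hcon a
    refine hc ?_
    have h1 : ψ (ι P) = 0 := hJ hPJ
    rw [← h1]
    show eval c P = eval₂Hom φ.toRingHom c (map (algebraMap k B) P)
    rw [coe_eval₂Hom, eval₂_map, AlgHom.toRingHom_eq_coe, φ.comp_algebraMap, Algebra.algebraMap_self]
    rfl
  · exfalso
    push Not at h
    have hdisj : Disjoint (J : Set (MvPolynomial (Fin m) B)) (Submonoid.map ι.toMonoidHom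
        (nonZeroDivisors (MvPolynomial (Fin m) k))) := by
      rw [Set.disjoint_left]
      rintro _ hx ⟨P, hP, rfl⟩
      exact h P (nonZeroDivisors.ne_zero hP) hx
    obtain ⟨Q, hQ, hJQ, hQS⟩ := Ideal.exists_le_prime_disjoint J _ hdisj
    haveI := hQ
    let q := Q.comap (C : B →+* MvPolynomial (Fin m) B)
    haveI : q.IsPrime := Ideal.comap_isPrime _ _
    let F := q.ResidueField
    let K := Q.ResidueField
    letI : Algebra F K := (Ideal.ResidueField.map q Q C rfl).toAlgebra
    have hFK : ∀ x : B, algebraMap F K (algebraMap B F x) = algebraMap (MvPolynomial (Fin m) B) K (C x) :=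
      fun x => Ideal.ResidueField.map_algebraMap q Q C rfl x
    haveI : IsScalarTower k F K := IsScalarTower.of_algebraMap_eq fun x => by
      rw [IsScalarTower.algebraMap_apply k B F, hFK,
        IsScalarTower.algebraMap_apply k (MvPolynomial (Fin m) B) K]
      rfl
    let c : Fin m → K := fun i => algebraMap (MvPolynomial (Fin m) B) K (X i)
    have hc : AlgebraicIndependent k c := by
      rw [algebraicIndependent_iff]
      intro P hP
      by_contra hP0
      refine Set.disjoint_left.mp hQS ?_ ⟨P, mem_nonZeroDivisors_of_ne_zero hP0, rfl⟩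
      rw [SetLike.mem_coe, ← Ideal.algebraMap_residueField_eq_zero, ← hP]
      show algebraMap (MvPolynomial (Fin m) B) K (ι P) = _
      clear hP hP0
      induction P using MvPolynomial.induction_on with
      | C a => simp [ι, IsScalarTower.algebraMap_apply k (MvPolynomial (Fin m) B) K]
      | add p q hp hq => simp only [map_add, hp, hq]
      | mul_X p i hp => simp only [map_mul, map_X, aeval_X, hp, ι, c]
    obtain ⟨t, htq, htn⟩ := ht ⟨q, inferInstance⟩
    have hMF : Function.Surjective (M.map (algebraMap B F)).mulVec := by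
      obtain ⟨R, hR⟩ := Matrix.mulVec_surjective_iff_exists_right_inverse.mp hM
      refine Matrix.mulVec_surjective_iff_exists_right_inverse.mpr ⟨R.map (algebraMap B F), ?_⟩
      rw [← Matrix.map_mul, hR, Matrix.map_one _ (map_zero _) (map_one _)]
    have := card_eqs_le_trdeg (K := K) htq _ hMF (fun a => algebraMap B F (v a)) hc fun a => by
      have h0 : algebraMap (MvPolynomial (Fin m) B) K (E a) = 0 :=
        Ideal.algebraMap_residueField_eq_zero.mpr (hJQ (Ideal.subset_span ⟨a, rfl⟩))
      show algebraMap F K (algebraMap B F (v a)) + ∑ i, algebraMap F K (algebraMap B F (M a i)) * c i = 0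
      simp only [hFK]
      simpa [E, c] using h0
    omega

end GrothLib.Jets
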