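import Groth.Agent.Lib.Jets.ProjChart
import Mathlib.RingTheory.Etale.Descent
import Mathlib.RingTheory.TensorProduct.Quotient
import Mathlib.FieldTheory.IsAlgClosed.AlgebraicClosure

/-! # Bertini over an infinite field via the algebraic closure -/

set_option backward.isDefEq.respectTransparency false

universe u

open TensorProduct

namespace GrothLib.Jets

variable {k : Type u} [Field k] {K : Type u} [Field K] [IsAlgClosed K] [Algebra k K]
  {B : Type u} [CommRing B] [Algebra k B] {m : ℕ}

theorem aeval_tmul_surjective (g : Fin m → B)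
    (hgen : ∀ b : B, ∃ a : MvPolynomial (Fin m) k, MvPolynomial.aeval g a = b) (z : K ⊗[k] B) :
    ∃ a : MvPolynomial (Fin m) K, MvPolynomial.aeval (fun i => (1 : K) ⊗ₜ[k] g i) a = z := by
  suffices h : Function.Surjective (MvPolynomial.aeval (R := K) fun i => (1 : K) ⊗ₜ[k] g i) from h z
  rw [← AlgHom.range_eq_top, eq_top_iff]
  intro z hz
  clear hz
  induction z using TensorProduct.induction_on with
  | zero => exact Subalgebra.zero_mem _
  | tmul x b =>
    obtain ⟨a, rfl⟩ := hgen b
    set S := (MvPolynomial.aeval (R := K) fun i => (1 : K) ⊗ₜ[k] g i).range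
    have hone : ∀ a : MvPolynomial (Fin m) k, (1 : K) ⊗ₜ[k] MvPolynomial.aeval g a ∈ S := by
      intro a
      induction a using MvPolynomial.induction_on with
      | C r =>
        rw [MvPolynomial.aeval_C, Algebra.algebraMap_eq_smul_one, TensorProduct.tmul_smul,
          ← algebraMap_smul K r ((1 : K) ⊗ₜ[k] (1 : B))]
        exact S.smul_mem (S.one_mem) _
      | add p q hp hq => rw [map_add, TensorProduct.tmul_add]; exact S.add_mem hp hq
      | mul_X p i hp =>
        rw [map_mul, MvPolynomial.aeval_X, ← one_mul (1 : K), ← Algebra.TensorProduct.tmul_mul_tmul]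
        exact S.mul_mem hp ⟨MvPolynomial.X i, MvPolynomial.aeval_X _ i⟩
    rw [show x ⊗ₜ[k] MvPolynomial.aeval g a = x • ((1 : K) ⊗ₜ[k] MvPolynomial.aeval g a) by
      rw [TensorProduct.smul_tmul', smul_eq_mul, mul_one]]
    exact S.smul_mem (hone a) x
  | add x y hx hy => exact Subalgebra.add_mem _ hx hy

/-- Off a hypersurface of the parameter space over `K` the affine hyperplane section is smooth over `k`. -/
theorem exists_poly_smooth_infinite [Algebra.Smooth k B] (g : Fin m → B) (j : Fin m) (hj : g j = 1)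
    (hgen : ∀ b : B, ∃ a : MvPolynomial (Fin m) k, MvPolynomial.aeval g a = b) :
    ∃ P : MvPolynomial (Fin m) K, P ≠ 0 ∧ ∀ c : Fin m → k,
      MvPolynomial.eval (fun i => algebraMap k K (c i)) P ≠ 0 →
        Algebra.Smooth k (B ⧸ Ideal.span {∑ i, c i • g i}) := by
  let gK : Fin m → K ⊗[k] B := fun i => (1 : K) ⊗ₜ[k] g i
  obtain ⟨P, hP0, hP⟩ := exists_poly_not_mem_sq (k := K) (0 : K ⊗[k] B) gK fun p hp b =>
    jets_of_generators gK j (by show (1 : K) ⊗ₜ[k] g j = 1; rw [hj]; rfl) (aeval_tmul_surjective g hgen) p b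
  refine ⟨P, hP0, fun c hc => ?_⟩
  haveI h1 := smooth_quotient_of_not_mem_sq (k := K) _ (hP _ hc)
  let f := ∑ i, c i • g i
  have hf : (Ideal.span {f}).map (Algebra.TensorProduct.includeRight : B →ₐ[k] K ⊗[k] B) =
      Ideal.span {0 + ∑ i, algebraMap k K (c i) • gK i} := by
    rw [Ideal.map_span, Set.image_singleton, zero_add]
    congr 2
    simp [f, gK, TensorProduct.smul_tmul', TensorProduct.tmul_sum, ← Algebra.algebraMap_eq_smul_one]
  haveI : Algebra.Smooth K (K ⊗[k] (B ⧸ Ideal.span {f})) := by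
    refine Algebra.Smooth.of_equiv ((Ideal.quotientEquivAlgOfEq K hf.symm).trans
      (Algebra.TensorProduct.tensorQuotientEquiv (R := k) K B K (Ideal.span {f})).symm)
  haveI : Algebra.FinitePresentation k (B ⧸ Ideal.span {f}) :=
    Algebra.FinitePresentation.quotient (Submodule.fg_span_singleton f)
  exact Algebra.Smooth.of_smooth_tensorProduct_of_faithfullyFlat K

/-- Off a hyperplane over `K` the function is not nilpotent. -/
theorem exists_poly_prime_infinite [Algebra.FiniteType k B] [Nontrivial B] (g : Fin m → B) (j : Fin m)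
    (hj : g j = 1) :
    ∃ Q : MvPolynomial (Fin m) K, Q ≠ 0 ∧ ∀ c : Fin m → k,
      MvPolynomial.eval (fun i => algebraMap k K (c i)) Q ≠ 0 →
        ∃ p : PrimeSpectrum B, ∑ i, c i • g i ∉ p.asIdeal := by
  haveI : Nontrivial (K ⊗[k] B) :=
    (Algebra.TensorProduct.includeRight_injective (algebraMap k K).injective).nontrivial
  obtain ⟨p, hp⟩ := Ideal.exists_maximal (K ⊗[k] B)
  obtain ⟨φ, -⟩ := exists_point (k := K) p
  let gK : Fin m → K := fun i => φ ((1 : K) ⊗ₜ[k] g i)
  refine ⟨∑ i, MvPolynomial.C (gK i) * MvPolynomial.X i, fun h => ?_, fun c hc => ?_⟩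
  · have h1 := congrArg (MvPolynomial.eval (Pi.single j (1 : K))) h
    rw [map_sum, map_zero, Finset.sum_eq_single j (fun l _ hl => by simp [Pi.single_eq_of_ne hl])
      (fun hh => (hh (Finset.mem_univ _)).elim)] at h1
    have h2 : gK j = 1 := by show φ ((1 : K) ⊗ₜ[k] g j) = 1; rw [hj]; exact map_one φ
    simp [h2] at h1
  · let ψ : B →+* K := φ.toRingHom.comp Algebra.TensorProduct.includeRight.toRingHom
    haveI := RingHom.ker_isPrime ψ
    refine ⟨⟨RingHom.ker ψ, inferInstance⟩, fun hmem => hc ?_⟩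
    rw [RingHom.mem_ker, map_sum] at hmem
    rw [map_sum, ← hmem]
    refine Finset.sum_congr rfl fun i _ => ?_
    show MvPolynomial.eval _ _ = φ ((1 : K) ⊗ₜ[k] (c i • g i))
    rw [TensorProduct.tmul_smul, ← algebraMap_smul K (c i) ((1 : K) ⊗ₜ[k] g i), map_smul]
    simp [gK, mul_comm]

end GrothLib.Jets
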